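import Mathlib
import Groth.Prelude.Def_W4bk4git07Quot
import Groth.Prelude.Def_AlgGrp

/-!
# A geometric quotient has closed geometric orbits (helper2)
-/

set_option autoImplicit false
set_option synthInstance.maxHeartbeats 400000
set_option maxHeartbeats 4000000
set_option linter.style.haveILetI false
set_option linter.unusedSectionVars false
set_option linter.unusedVariables false
set_option linter.unusedSimpArgs false
set_option linter.unnecessarySimpa false

namespace Groth.Agent.Helper2.ClosedAction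
open CategoryTheory CategoryTheory.Limits MonoidalCategory CartesianMonoidalCategory MonObj GrpObj
  AlgebraicGeometry Topology
universe u

/-- The range of a section of a morphism to a one-point affine scheme is closed. -/
theorem isClosed_range_of_section {Z W : Scheme.{u}} [IsAffine W] [Subsingleton W]
    (s : W ⟶ Z) (r : Z ⟶ W) (h : s ≫ r = 𝟙 W) : IsClosed (Set.range s.base) := by
  rw [Z.affineCover.isOpenCover_opensRange.isClosed_iff_coe_preimage]
  intro i
  obtain ⟨U, hU⟩ : ∃ U : Z.Opens, U = (Z.affineCover.f i).opensRange := ⟨_, rfl⟩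
  rw [← hU]
  have hUaff : IsAffineOpen U := hU ▸ isAffineOpen_opensRange (Z.affineCover.f i)
  by_cases hne : ∃ w : W, s.base w ∈ U
  · obtain ⟨w₀, hw₀⟩ := hne
    have hsub : Set.range s.base ⊆ Set.range U.ι.base := by
      rintro _ ⟨w, rfl⟩
      rw [Subsingleton.elim w w₀]
      simpa using hw₀
    let s' : W ⟶ U.toScheme := IsOpenImmersion.lift U.ι s hsub
    have hs' : s' ≫ U.ι = s := IsOpenImmersion.lift_fac _ _ _
    haveI : IsAffine U.toScheme := hUaff
    haveI : IsClosedImmersion (s' ≫ (U.ι ≫ r)) := by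
      rw [← Category.assoc, hs', h]; infer_instance
    haveI : IsClosedImmersion s' := IsClosedImmersion.of_comp s' (U.ι ≫ r)
    have hcl : IsClosed (Set.range s'.base) := s'.isClosedEmbedding.isClosed_range
    have heq : (Subtype.val ⁻¹' Set.range s.base : Set U) = Set.range s'.base := by
      ext x
      constructor
      · rintro ⟨w, hw⟩
        refine ⟨w, ?_⟩
        apply Subtype.ext
        rw [← hw, ← hs']
        rfl
      · rintro ⟨w, rfl⟩
        refine ⟨w, ?_⟩
        rw [← hs']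
        rfl
    have hcl' : IsClosed (Subtype.val ⁻¹' Set.range s.base : Set U) := heq ▸ hcl
    exact hcl'
  · convert isClosed_empty
    ext x
    simp only [Set.mem_preimage, Set.mem_range, Set.mem_empty_iff_false, iff_false]
    rintro ⟨w, hw⟩
    exact hne ⟨w, hw ▸ x.2⟩

section orbit

variable {S : Scheme.{u}}

/-- Points of fibre products, in the category of schemes over `S`. -/
theorem exists_over_point {A B C : Over S} (u : A ⟶ C) (v : B ⟶ C) (a : A.left) (b : B.left)
    (hab : u.left.base a = v.left.base b) :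
    ∃ (W : Over S) (z : W.left) (α : W ⟶ A) (β : W ⟶ B), α ≫ u = β ≫ v ∧ α.left.base z = a ∧
      β.left.base z = b := by
  obtain ⟨z, hz1, hz2⟩ := Scheme.Pullback.exists_preimage_pullback (f := u.left) (g := v.left) a b hab
  have hw : pullback.snd u.left v.left ≫ B.hom = pullback.fst u.left v.left ≫ A.hom := by
    rw [← Over.w v, ← Over.w u, ← Category.assoc, ← Category.assoc, pullback.condition]
  refine ⟨Over.mk (pullback.fst u.left v.left ≫ A.hom), z, Over.homMk (pullback.fst u.left v.left) rfl,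
    Over.homMk (pullback.snd u.left v.left) hw, ?_, hz1, hz2⟩
  apply Over.OverMorphism.ext
  exact pullback.condition

variable {G X Y : Over S} [GrpObj G] (a : AlgGrp.Action G X) (φ : X ⟶ Y)

theorem exists_orbit_point (h : GIT.IsGeomQuot a φ) {W : Over S} (x₁ x₂ : W ⟶ X)
    (hx : x₁ ≫ φ = x₂ ≫ φ) (z : W.left) :
    ∃ (W' : Over S) (z' : W'.left) (ρ : W' ⟶ W) (gm : W' ⟶ G ⊗ X), ρ.left.base z' = z ∧
      gm ≫ a.act = ρ ≫ x₁ ∧ gm ≫ snd G X = ρ ≫ x₂ := by
  have hx' : x₁.left ≫ φ.left = x₂.left ≫ φ.left := by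
    rw [← Over.comp_left, ← Over.comp_left, hx]
  obtain ⟨c, hc⟩ : ∃ c : W.left ⟶ pullback φ.left φ.left, c = pullback.lift x₁.left x₂.left hx' :=
    ⟨_, rfl⟩
  have hc1 : c ≫ pullback.fst φ.left φ.left = x₁.left := by rw [hc]; exact pullback.lift_fst _ _ _
  have hc2 : c ≫ pullback.snd φ.left φ.left = x₂.left := by rw [hc]; exact pullback.lift_snd _ _ _
  obtain ⟨Ψ, hΨ⟩ : ∃ Ψ, Ψ = GIT.PsiY a φ h.inv := ⟨_, rfl⟩
  have hΨ1 : Ψ ≫ pullback.fst φ.left φ.left = a.act.left := by
    rw [hΨ]; exact pullback.lift_fst _ _ _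
  have hΨ2 : Ψ ≫ pullback.snd φ.left φ.left = (snd G X).left := by
    rw [hΨ]; exact pullback.lift_snd _ _ _
  have hsurj : Function.Surjective Ψ.base := by rw [hΨ]; exact h.orbit
  obtain ⟨g, hg⟩ := hsurj (c.base z)
  obtain ⟨z', -, hz'⟩ := Scheme.Pullback.exists_preimage_pullback (f := Ψ) (g := c) g z hg
  have cond : pullback.fst Ψ c ≫ Ψ = pullback.snd Ψ c ≫ c := pullback.condition
  have c₂a : pullback.fst Ψ c ≫ a.act.left = pullback.snd Ψ c ≫ x₁.left := by
    rw [← hΨ1, ← hc1, ← Category.assoc, ← Category.assoc, cond]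
  have c₂b : pullback.fst Ψ c ≫ (snd G X).left = pullback.snd Ψ c ≫ x₂.left := by
    rw [← hΨ2, ← hc2, ← Category.assoc, ← Category.assoc, cond]
  have hw : pullback.fst Ψ c ≫ (G ⊗ X).hom = pullback.snd Ψ c ≫ W.hom := by
    rw [← Over.w (snd G X), ← Category.assoc, c₂b, Category.assoc, Over.w x₂]
  refine ⟨Over.mk (pullback.snd Ψ c ≫ W.hom), z', Over.homMk (pullback.snd Ψ c) rfl,
    Over.homMk (pullback.fst Ψ c) hw, hz', ?_, ?_⟩
  · apply Over.OverMorphism.ext
    exact c₂a
  · apply Over.OverMorphism.ext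
    exact c₂b

theorem psi_comp {T : Over S} (f : T ⟶ X) (hinv : GIT.IsInvariant a φ) :
    GIT.psi a f ≫ (φ ▷ T) = snd G T ≫ lift (f ≫ φ) (𝟙 T) := by
  have h1 : a.act ≫ φ = snd G X ≫ φ := hinv
  apply CartesianMonoidalCategory.hom_ext
  · simp only [GIT.psi, Category.assoc, whiskerRight_fst, lift_fst_assoc, lift_fst, h1]
    rw [whiskerLeft_snd_assoc]
  · simp only [GIT.psi, Category.assoc, whiskerRight_snd, lift_snd, Category.comp_id]

theorem range_psi_eq (h : GIT.IsGeomQuot a φ) {T : Over S} (f : T ⟶ X) :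
    Set.range (GIT.psi a f).left.base =
      (φ ▷ T).left.base ⁻¹' Set.range (lift (f ≫ φ) (𝟙 T)).left.base := by
  apply Set.Subset.antisymm
  · rintro _ ⟨z, rfl⟩
    refine ⟨(snd G T).left.base z, ?_⟩
    have h0 := congrArg (fun m => m.left.base z) (psi_comp a φ f h.inv)
    exact h0.symm
  · intro w hw
    obtain ⟨t₀, ht₀⟩ := hw
    obtain ⟨s, hs⟩ : ∃ s : T ⟶ Y ⊗ T, s = lift (f ≫ φ) (𝟙 T) := ⟨_, rfl⟩
    rw [← hs] at ht₀
    have hs1 : s ≫ fst Y T = f ≫ φ := by rw [hs]; exact lift_fst _ _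
    have hs2 : s ≫ snd Y T = 𝟙 T := by rw [hs]; exact lift_snd _ _
    obtain ⟨W₁, z₁, α₁, τ₁, E₁, hz₁, -⟩ := exists_over_point (φ ▷ T) s w t₀ ht₀.symm
    have hτ : α₁ ≫ snd X T = τ₁ := by
      have h3 := congrArg (· ≫ snd Y T) E₁
      simp only [Category.assoc, whiskerRight_snd, hs2, Category.comp_id] at h3
      exact h3
    have hx : (α₁ ≫ fst X T) ≫ φ = (τ₁ ≫ f) ≫ φ := by
      have h3 := congrArg (· ≫ fst Y T) E₁
      simp only [Category.assoc, whiskerRight_fst, hs1] at h3
      simpa only [Category.assoc] using h3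
    obtain ⟨W₂, z₂, ρ, gm, hz₂, e₂a, e₂b⟩ := exists_orbit_point a φ h (α₁ ≫ fst X T) (τ₁ ≫ f) hx z₁
    obtain ⟨ζ, hζ⟩ : ∃ ζ : W₂ ⟶ G ⊗ T, ζ = lift (gm ≫ fst G X) (ρ ≫ τ₁) := ⟨_, rfl⟩
    have hζ1 : ζ ≫ fst G T = gm ≫ fst G X := by rw [hζ]; exact lift_fst _ _
    have hζ2 : ζ ≫ snd G T = ρ ≫ τ₁ := by rw [hζ]; exact lift_snd _ _
    have h1 : ζ ≫ (G ◁ f) = gm := by
      apply CartesianMonoidalCategory.hom_ext
      · rw [Category.assoc, whiskerLeft_fst, hζ1]
      · rw [Category.assoc, whiskerLeft_snd, ← Category.assoc, hζ2, e₂b, Category.assoc]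
    have key : ζ ≫ GIT.psi a f = ρ ≫ α₁ := by
      apply CartesianMonoidalCategory.hom_ext
      · simp only [GIT.psi, Category.assoc, lift_fst]
        rw [← Category.assoc ζ, h1, e₂a]
      · simp only [GIT.psi, Category.assoc, lift_snd]
        rw [hζ2, hτ]
    refine ⟨ζ.left.base z₂, ?_⟩
    have h0 := congrArg (fun m => m.left.base z₂) key
    have h2 : (ρ ≫ α₁).left.base z₂ = α₁.left.base (ρ.left.base z₂) := rfl
    have h3 : (ζ ≫ GIT.psi a f).left.base z₂ = (GIT.psi a f).left.base (ζ.left.base z₂) := rfl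
    rw [← h3]
    exact h0.trans (h2.trans ((congrArg _ hz₂).trans hz₁))

theorem main (G X Y : Over S) [GrpObj G]
    (a : AlgGrp.Action G X) (φ : X ⟶ Y) (h : GIT.IsGeomQuot a φ) : GIT.IsClosedAction a := by
  intro Ω _ _ T e f
  rw [range_psi_eq a φ h f]
  haveI : IsAffine T.left := IsAffine.of_isIso e.hom
  haveI : Subsingleton T.left := by
    haveI : Subsingleton (Spec (CommRingCat.of Ω)) :=
      (inferInstance : Subsingleton (PrimeSpectrum Ω))
    exact (Scheme.homeoOfIso e).injective.subsingleton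
  have hcl : IsClosed (Set.range (lift (f ≫ φ) (𝟙 T)).left.base) :=
    isClosed_range_of_section (lift (f ≫ φ) (𝟙 T)).left (snd Y T).left
      (by rw [← Over.comp_left, lift_snd]; rfl)
  exact hcl.preimage (φ ▷ T).left.continuous

end orbit

end Groth.Agent.Helper2.ClosedAction
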